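import Cfsg.Agent.Lib.LeechCount.HSPlane.Defs

/-!
Kernel checks for one word.
-/

set_option autoImplicit false
set_option maxRecDepth 20000

namespace Cfsg.Agent.LeechCount.HSPlane

open Cfsg Cfsg.Agent.Leech Cfsg.Agent.LeechCount Co3Out Co3Rank

noncomputable section

attribute [local irreducible] normFS dotFS

theorem gen_1_0 : genB 1 0 = true := by decide +kernel

theorem gen_1_1 : genB 1 1 = true := by decide +kernel

theorem gen_1_2 : genB 1 2 = true := by decide +kernel

theorem gen_1_3 : genB 1 3 = true := by decide +kernel

theorem gen_1_4 : genB 1 4 = true := by decide +kernel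

theorem gen_1_5 : genB 1 5 = true := by decide +kernel

theorem gen_1_6 : genB 1 6 = true := by decide +kernel

theorem gen_1_7 : genB 1 7 = true := by decide +kernel

theorem gen_1_8 : genB 1 8 = true := by decide +kernel

theorem gen_1_9 : genB 1 9 = true := by decide +kernel

end

end Cfsg.Agent.LeechCount.HSPlane
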