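import Cfsg.Agent.Lib.LeechCount.HSPlane.Check0
import Cfsg.Agent.Lib.LeechCount.HSPlane.Check1
import Cfsg.Agent.Lib.LeechCount.HSPlane.Check2

/-!
Checks on the fifty points and the three words.
-/

set_option autoImplicit false
set_option maxRecDepth 20000

namespace Cfsg.Agent.LeechCount.HSPlane

open Cfsg Cfsg.Agent.Leech Cfsg.Agent.LeechCount Co3Out Co3Rank

noncomputable section

attribute [local irreducible] normFS dotFS

theorem sel_true : selB (list100.filter fun l => dotL x0L l == 8) tgtL = true := by decide +kernel

theorem nodup_true : ((List.range 50).all fun i => (List.range i).all fun j => tgt i != tgt j) = true := by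
  decide +kernel

theorem len_true : (x0L.length == 24 && tgtL.length == 50) = true := by decide +kernel

theorem fix_true : ((List.range 3).all fixB) = true := by decide +kernel

theorem gen_true : ∀ j < 3, ∀ k < 10, genB j k = true := by
  intro j hj k hk
  interval_cases j <;> interval_cases k
  exacts [gen_0_0, gen_0_1, gen_0_2, gen_0_3, gen_0_4, gen_0_5, gen_0_6, gen_0_7, gen_0_8, gen_0_9, gen_1_0, gen_1_1, gen_1_2, gen_1_3, gen_1_4, gen_1_5, gen_1_6, gen_1_7, gen_1_8, gen_1_9, gen_2_0, gen_2_1, gen_2_2, gen_2_3, gen_2_4, gen_2_5, gen_2_6, gen_2_7, gen_2_8, gen_2_9]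

theorem x0_root : -root 6 = vecOf x0L := by decide +kernel

end

end Cfsg.Agent.LeechCount.HSPlane
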