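import Cfsg.Agent.Lib.LeechCount.HSPlane.Data
import Cfsg.Agent.Lib.LeechCount.HSData
import Cfsg.Agent.Lib.U35.Stab

/-!
The checks on the fifty points and the three words.
-/

set_option autoImplicit false
set_option maxRecDepth 20000

namespace Cfsg.Agent.LeechCount.HSPlane

open Cfsg Cfsg.Agent.Leech Cfsg.Agent.LeechCount Co3Out Co3Rank

noncomputable section

attribute [local irreducible] normFS dotFS

/-- A point of the list. -/
def tgt (i : ℕ) : List ℤ := tgtL.getD i []

/-- Two lists have the same members. -/
def selB (F T : List (List ℤ)) : Bool := (F.all fun l => T.contains l) && T.all fun l => F.contains l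

/-- One word is an automorphism fixing the two vectors. -/
def fixB (j : ℕ) : Bool :=
  wOk (wordL.getD j []) && (wL (wordL.getD j []) dList == dList) && (wL (wordL.getD j []) x0L == x0L)

/-- One word on five of the points. -/
def genB (j k : ℕ) : Bool :=
  (List.range' (5 * k) 5).all fun i => wL (wordL.getD j []) (tgt i) == tgt (U35.pi50 j i)

end

end Cfsg.Agent.LeechCount.HSPlane
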