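import Cfsg.Agent.Lib.LeechCount.HSPlane.Check
import Cfsg.Agent.Lib.LeechCount.HSGroup
import Cfsg.Agent.Lib.LeechCount.Co3Rank.Orbits
import Cfsg.Agent.Lib.U35.Main
import Cfsg.Agent.Lib.U34.Main
import Cfsg.Agent.Lib.LinearGroups.UnitaryOrder
import Cfsg.Agent.S0283

/-!
The stabiliser of one of the 352 vectors of the Higman-Sims configuration is `PSU₃(5)`.
-/

set_option autoImplicit false
set_option linter.style.haveILetI false

namespace Cfsg.Agent.LeechCount.HSPlane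

open Cfsg Cfsg.Agent.Leech Cfsg.Agent.LeechCount Co3Out Co3Rank MulAction

noncomputable section

attribute [local irreducible] normFS dotFS PtCert.members

/-- The chosen vector. -/
def x0 : ↥leechLattice := -⟨root 6, root_mem 6⟩

theorem x0_val : (x0 : Vec) = vecOf x0L := x0_root

theorem orbit_neg (H : Subgroup ↥Co0) (y : ↥leechLattice) :
    orbit ↥H (-y) = (fun z => -z) '' orbit ↥H y := by
  ext z
  constructor
  · rintro ⟨g, rfl⟩
    exact ⟨g • y, ⟨g, rfl⟩, (co0_smul_neg (g : ↥Co0) y).symm⟩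
  · rintro ⟨_, ⟨g, rfl⟩, rfl⟩
    exact ⟨g, co0_smul_neg (g : ↥Co0) y⟩

theorem orbit_x0 : (orbit ↥(stabilizer ↥Co0 Co3Rank.U0 ⊓ stabilizer ↥Co0 X0) x0).ncard = 352 := by
  rw [x0, orbit_neg, Set.ncard_image_of_injective _ neg_injective, orbit_ncard 6 (by decide)]
  decide

/-- The stabiliser. -/
def K : Subgroup ↥Co0 := stabilizer ↥Co0 Co3Rank.U0 ⊓ stabilizer ↥Co0 X0 ⊓ stabilizer ↥Co0 x0

theorem card_K : Nat.card ↥K = 126000 := by
  have h := card_inf_stab (stabilizer ↥Co0 Co3Rank.U0 ⊓ stabilizer ↥Co0 X0) x0 352 orbit_x0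
  rw [card_hs vecV_norm vecU'_facts.2.1 vecU'_facts.2.2] at h
  unfold K
  omega

theorem pts_facts : x0L.length = 24 ∧ tgtL.length = 50 ∧
    (∀ l ∈ list100, dotL x0L l = 8 → l ∈ tgtL) ∧
    (∀ i < 50, tgt i ∈ list100 ∧ dotL x0L (tgt i) = 8 ∧ ∀ j < i, tgt i ≠ tgt j) := by
  have h1 := len_true
  have h2 := sel_true
  have h3 := nodup_true
  simp only [selB, Bool.and_eq_true, beq_iff_eq, List.all_eq_true, List.mem_filter, List.contains_eq_mem,
    decide_eq_true_eq, List.mem_range, bne_iff_ne] at h1 h2 h3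
  refine ⟨h1.1, h1.2, fun l hl hd => h2.1 l ⟨hl, hd⟩, fun i hi => ?_⟩
  have hm : tgt i ∈ tgtL := by
    rw [tgt, List.getD_eq_getElem _ _ (h1.2.symm ▸ hi)]
    exact List.getElem_mem _
  exact ⟨(h2.2 _ hm).1, (h2.2 _ hm).2, h3 i hi⟩

theorem tgt_mem (i : Fin 50) : vecOf (tgt i) ∈ leechLattice ∧ (tgt i).length = 24 :=
  have h := list552_mem _ (List.mem_filter.1 (pts_facts.2.2.2 i i.isLt).1).1
  ⟨h.1, h.2.1⟩

/-- A point as a lattice vector. -/
def P (i : Fin 50) : ↥leechLattice := ⟨vecOf (tgt i), (tgt_mem i).1⟩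

theorem P_inj : Function.Injective P := by
  intro i j h
  have e := vecOf_inj (tgt_mem i).2 (tgt_mem j).2 (congrArg Subtype.val h)
  rcases lt_trichotomy (i : ℕ) j with hl | hl | hl
  · exact absurd e.symm ((pts_facts.2.2.2 j j.isLt).2.2 i hl)
  · exact Fin.ext hl
  · exact absurd e ((pts_facts.2.2.2 i i.isLt).2.2 j hl)

theorem P_closed (g : ↥K) (i : Fin 50) : ∃ j : Fin 50, (g : ↥Co0) • P i = P j := by
  obtain ⟨⟨gu, gX⟩, gx⟩ := g.2
  obtain ⟨h1, h2, h3, h4⟩ := pts_facts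
  obtain ⟨hm, hd8, -⟩ := h4 i i.isLt
  obtain ⟨h552, hd0⟩ := List.mem_filter.1 hm
  obtain ⟨hl, hlen, hn, hu⟩ := list552_mem _ h552
  set y : ↥leechLattice := (g : ↥Co0) • P i
  have hy : (y : Vec) ∈ dotFS 24 Spor.vecV := by
    refine mem_dotFS.2 ⟨⟨y.2, ?_⟩, ?_⟩
    · rw [co0_smul_norm, ← dot_self]
      show dotInt (vecOf (tgt i)) (vecOf (tgt i)) = 32
      rw [dot_vecOf hlen hlen, hn]
    · show dotInt ((Co3Rank.U0 : ↥leechLattice) : Vec) _ = 24
      rw [dot_of_fix _ gu]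
      show dotInt Spor.vecV (vecOf (tgt i)) = 24
      rw [← uList_eq, dot_vecOf uList_length hlen, hu]
  rw [dotFS_vecV, List.mem_toFinset, List.mem_map] at hy
  obtain ⟨l, hl', hly⟩ := hy
  have hlen' := (list552_mem l hl').2.1
  have hX : dotInt Spor.vecU' (y : Vec) = 0 := by
    show dotInt ((X0 : ↥leechLattice) : Vec) _ = 0
    rw [dot_of_fix _ gX]
    show dotInt Spor.vecU' (vecOf (tgt i)) = 0
    rw [← dList_eq, dot_vecOf (by simp [dList]) hlen, beq_iff_eq.1 hd0]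
  have hx : dotInt (x0 : Vec) (y : Vec) = 8 := by
    rw [dot_of_fix _ gx, x0_val]
    show dotInt (vecOf x0L) (vecOf (tgt i)) = 8
    rw [dot_vecOf h1 hlen, hd8]
  have hmem : l ∈ tgtL := h3 l (List.mem_filter.2 ⟨hl', by
    rw [beq_iff_eq, ← dot_vecOf (by simp [dList]) hlen', dList_eq, hly, hX]⟩)
    (by rw [← dot_vecOf h1 hlen', ← x0_val, hly, hx])
  obtain ⟨j, hj, hjl⟩ := List.getElem_of_mem hmem
  refine ⟨⟨j, h2 ▸ hj⟩, Subtype.ext ?_⟩
  show (y : Vec) = vecOf (tgt j)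
  rw [tgt, List.getD_eq_getElem _ _ hj, hjl, hly]

/-- The image point. -/
def rhoF (g : ↥K) (i : Fin 50) : Fin 50 := (P_closed g i).choose

theorem P_rhoF (g : ↥K) (i : Fin 50) : P (rhoF g i) = (g : ↥Co0) • P i := (P_closed g i).choose_spec.symm

theorem rhoF_one (i : Fin 50) : rhoF 1 i = i :=
  P_inj (by rw [P_rhoF, OneMemClass.coe_one, one_smul])

theorem rhoF_mul (g h : ↥K) (i : Fin 50) : rhoF (g * h) i = rhoF g (rhoF h i) :=
  P_inj (by rw [P_rhoF, P_rhoF, P_rhoF, Subgroup.coe_mul, mul_smul])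

/-- The action on the fifty points. -/
def rho : ↥K →* Equiv.Perm (Fin 50) where
  toFun g := ⟨rhoF g, rhoF g⁻¹, fun i => by rw [← rhoF_mul, inv_mul_cancel, rhoF_one],
    fun i => by rw [← rhoF_mul, mul_inv_cancel, rhoF_one]⟩
  map_one' := Equiv.ext rhoF_one
  map_mul' g h := Equiv.ext (rhoF_mul g h)

/-- The image set. -/
theorem tau_ex (g : U35.G0) (i : Fin 50) : ∃ j : Fin 50, AutPSU.app g '' U35.X i = U35.X j :=
  have ⟨l, hl, e⟩ := U35.X_closed g i i.isLt
  ⟨⟨l, hl⟩, e⟩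

/-- The image of a set. -/
def tauF (g : U35.G0) (i : Fin 50) : Fin 50 := (tau_ex g i).choose

theorem X_tauF (g : U35.G0) (i : Fin 50) : U35.X (tauF g i) = AutPSU.app g '' U35.X i :=
  (tau_ex g i).choose_spec.symm

theorem tauF_one (i : Fin 50) : tauF 1 i = i :=
  Fin.ext (U35.X_inj (tauF 1 i).isLt i.isLt (by rw [X_tauF, U35.image_one]))

theorem tauF_mul (g h : U35.G0) (i : Fin 50) : tauF (g * h) i = tauF g (tauF h i) :=
  Fin.ext (U35.X_inj (tauF _ i).isLt (tauF g _).isLt (by rw [X_tauF, X_tauF, X_tauF, U35.image_mul]))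

/-- The action on the fifty sets. -/
def tau : U35.G0 →* Equiv.Perm (Fin 50) where
  toFun g := ⟨tauF g, tauF g⁻¹, fun i => by rw [← tauF_mul, inv_mul_cancel, tauF_one],
    fun i => by rw [← tauF_mul, mul_inv_cancel, tauF_one]⟩
  map_one' := Equiv.ext tauF_one
  map_mul' g h := Equiv.ext (tauF_mul g h)

theorem gen_mem_range (j : Fin 3) : tau (U35.gen j) ∈ rho.range := by
  have h := List.all_eq_true.1 fix_true j (List.mem_range.2 j.isLt)
  simp only [fixB, Bool.and_eq_true, beq_iff_eq] at h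
  obtain ⟨⟨hw, hd⟩, hx⟩ := h
  have hp : ∀ i < 50, wL (wordL.getD (j : ℕ) []) (tgt i) = tgt (U35.pi50 j i) := fun i hi => by
    have h := gen_true j j.isLt (i / 5) (by omega)
    simp only [genB, List.all_eq_true, beq_iff_eq] at h
    exact h i (List.mem_range'_1.2 ⟨by omega, by omega⟩)
  set w := wordL.getD (j : ℕ) []
  have hfix : ∀ {l : List ℤ} (v : ↥leechLattice), (v : Vec) = vecOf l → wL w l = l →
      (wEl w : ↥Co0) • v = v := fun {l} v hv e =>
    (smul_eq_iff_ap _ _ _).2 (by rw [hv, ap_wEl hw (hv ▸ v.2), e])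
  have hg : (wEl w : ↥Co0) ∈ K :=
    ⟨⟨(wEl w).2, hfix X0 dList_eq.symm hd⟩, hfix x0 x0_val hx⟩
  refine ⟨⟨_, hg⟩, Equiv.ext fun i => ?_⟩
  show rhoF ⟨_, hg⟩ i = tauF (U35.gen j) i
  obtain ⟨e, hlt⟩ := U35.gen_X j i.isLt
  have hv : (tauF (U35.gen j) i : ℕ) = U35.pi50 j i :=
    U35.X_inj (tauF _ i).isLt hlt (by rw [X_tauF, e])
  apply P_inj
  rw [P_rhoF]
  refine (smul_eq_iff_ap _ _ _).2 ?_
  show ap (wEl w : ↥Co0) (vecOf (tgt i)) = vecOf (tgt (tauF (U35.gen j) i : ℕ))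
  rw [ap_wEl hw (tgt_mem i).1, hp i i.isLt, hv]

theorem range_le : tau.range ≤ rho.range := by
  rw [MonoidHom.range_eq_map, ← U35.Gam_eq_top, U35.Gam, MonoidHom.map_closure, Subgroup.closure_le]
  rintro _ ⟨_, ⟨j, rfl⟩, rfl⟩
  exact gen_mem_range j

theorem card_center : Nat.card ↥(Subgroup.center U35.G0) = 3 :=
  UnitaryOrder.card_center_SU (F := U35.K25) (q := 5) (by rw [U35.card_K25]; norm_num) 3 (by norm_num)

theorem ker_le : tau.ker ≤ Subgroup.center U35.G0 := by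
  haveI : IsSimpleGroup (Cfsg.PSU 3 U35.K25 5) :=
    S0283.result (by rw [U35.card_K25]; norm_num) 3 le_rfl (by norm_num)
  set π := QuotientGroup.mk' (Subgroup.center U35.G0)
  have hn : (tau.ker.map π).Normal :=
    Subgroup.Normal.map inferInstance π (QuotientGroup.mk'_surjective _)
  rcases hn.eq_bot_or_eq_top with h | h
  · rw [Subgroup.map_eq_bot_iff, QuotientGroup.ker_mk'] at h
    exact h
  · exfalso
    have hall : ∀ g : U35.G0, ∃ z : Subgroup.center U35.G0, tau g = tau z := by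
      intro g
      obtain ⟨k, hk, e⟩ := (h ▸ Subgroup.mem_top (π g) : π g ∈ tau.ker.map π)
      have hz : k⁻¹ * g ∈ Subgroup.center U35.G0 := QuotientGroup.eq.1 e
      refine ⟨⟨_, hz⟩, ?_⟩
      show tau g = tau (k⁻¹ * g)
      rw [map_mul, map_inv, MonoidHom.mem_ker.1 hk, inv_one, one_mul]
    have hsur : Function.Surjective fun z : Subgroup.center U35.G0 => tau z (0 : Fin 50) := by
      intro i
      obtain ⟨g, hg⟩ := U35.X_reach i i.isLt
      obtain ⟨z, hz⟩ := hall g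
      refine ⟨z, ?_⟩
      show tau z 0 = i
      rw [← hz]
      show tauF g 0 = i
      exact Fin.ext (U35.X_inj (tauF g 0).isLt i.isLt (by rw [X_tauF]; exact hg))
    haveI : Finite ↥(Subgroup.center U35.G0) := Nat.finite_of_card_ne_zero (by rw [card_center]; norm_num)
    have := Nat.card_le_card_of_surjective _ hsur
    rw [card_center, Nat.card_fin] at this
    omega

theorem main_equiv : Nonempty (↥K ≃* Cfsg.PSU 3 U35.K25 5) := by
  haveI : Finite U35.G0 := Nat.finite_of_card_ne_zero (by rw [U35.card_G]; norm_num)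
  haveI : Finite ↥K := Nat.finite_of_card_ne_zero (by rw [card_K]; norm_num)
  have h1 : Nat.card U35.G0 = Nat.card (↥tau.range) * Nat.card ↥tau.ker := by
    rw [Subgroup.card_eq_card_quotient_mul_card_subgroup tau.ker,
      Nat.card_congr (QuotientGroup.quotientKerEquivRange tau).toEquiv]
  have h2 : Nat.card ↥tau.ker ≤ 3 :=
    (Nat.card_le_card_of_injective _ (Subgroup.inclusion_injective ker_le)).trans card_center.le
  have h3 : Nat.card ↥tau.range ≤ Nat.card ↥rho.range :=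
    Nat.card_le_card_of_injective _ (Subgroup.inclusion_injective range_le)
  have h4 : Nat.card ↥rho.range ≤ 126000 :=
    card_K ▸ Nat.card_le_card_of_surjective _ rho.rangeRestrict_surjective
  rw [U35.card_G] at h1
  have h5 : 126000 ≤ Nat.card ↥tau.range := by
    by_contra hlt
    have := Nat.mul_le_mul (Nat.le_of_lt_succ (Nat.lt_succ_of_lt (not_le.1 hlt))) h2
    nlinarith
  have h6 : Nat.card ↥tau.ker = 3 := by
    have e : Nat.card ↥tau.range = 126000 := le_antisymm (h3.trans h4) h5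
    rw [e] at h1
    omega
  have hinj : Function.Injective rho.rangeRestrict := by
    refine ((Nat.bijective_iff_surjective_and_card _).2 ⟨rho.rangeRestrict_surjective, ?_⟩).1
    rw [card_K]
    exact le_antisymm (h5.trans h3) h4
  have hr : tau.range = rho.range := Subgroup.eq_of_le_of_card_ge range_le (h4.trans h5)
  have hker : tau.ker = Subgroup.center U35.G0 :=
    Subgroup.eq_of_le_of_card_ge ker_le (by rw [card_center, h6])
  exact ⟨(MulEquiv.ofBijective rho.rangeRestrict ⟨hinj, rho.rangeRestrict_surjective⟩).trans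
    ((MulEquiv.subgroupCongr hr.symm).trans ((QuotientGroup.quotientKerEquivRange tau).symm.trans
      (QuotientGroup.quotientMulEquivOfEq hker)))⟩

theorem psu_congr {F : Type*} [Field F] [Fintype F] (hF : Fintype.card F = 25) :
    Nonempty (Cfsg.PSU 3 U35.K25 5 ≃* Cfsg.PSU 3 F 5) := by
  classical
  obtain ⟨e⟩ := U34.su_congr (FiniteField.ringEquivOfCardEq (K := U35.K25) (K' := F)
    (by rw [hF, U35.card_K25])) 3 5
  refine ⟨QuotientGroup.congr _ _ e ?_⟩
  ext y
  constructor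
  · rintro ⟨x, hx, rfl⟩
    refine Subgroup.mem_center_iff.2 fun z => ?_
    obtain ⟨z, rfl⟩ := e.surjective z
    show e z * e x = e x * e z
    rw [← map_mul, ← map_mul, Subgroup.mem_center_iff.1 hx z]
  · intro hy
    obtain ⟨x, rfl⟩ := e.surjective y
    refine ⟨x, Subgroup.mem_center_iff.2 fun z => e.injective ?_, rfl⟩
    rw [map_mul, map_mul]
    exact Subgroup.mem_center_iff.1 hy (e z)

/-- A further vector of a configuration is moved to the chosen one. -/
theorem move {v w x : ↥leechLattice} (hv : sqNorm (v : Vec) = 48) (hw : sqNorm (w : Vec) = 48)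
    (hvw : dotInt (v : Vec) w = -32) (hx : sqNorm (x : Vec) = 32) (hxv : dotInt (v : Vec) x = 16)
    (hxw : dotInt (w : Vec) x = -24) :
    ∃ g : ↥Co0, g • v = Co3Rank.U0 ∧ g • w = -Co3Rank.U0 + -X0 ∧ g • x = x0 := by
  set X : ↥leechLattice := -v + -w with hXdef
  have hlin : ∀ y : Vec, dotInt (X : Vec) y = -dotInt (v : Vec) y - dotInt (w : Vec) y := fun y => by
    rw [hXdef, AddSubgroup.coe_add, AddSubgroup.coe_neg, AddSubgroup.coe_neg]
    simp only [dotInt, Pi.add_apply, Pi.neg_apply, add_mul, neg_mul, Finset.sum_add_distrib,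
      Finset.sum_neg_distrib]
    ring
  have hXn : sqNorm (X : Vec) = 32 := by
    rw [← dot_self, hlin, dot_comm (v : Vec), dot_comm (w : Vec), hlin, hlin, dot_self, dot_self,
      dot_comm (w : Vec) (v : Vec), hvw, hv, hw]; norm_num
  have hXv : dotInt (X : Vec) v = -16 := by
    rw [hlin, dot_self, dot_comm (w : Vec), hvw, hv]; norm_num
  obtain ⟨g, g1, g2⟩ := coPair_subtype (v := X) (w := v) (v' := X0) (w' := Co3Rank.U0)
    (coPair_six X.2 hXn v.2 hv hXv vecU'_facts.1 vecU'_facts.2.1 vecV_leech vecV_norm vecU'_facts.2.2)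
  set y : ↥leechLattice := -(g • x)
  have hyv : ∀ a : ↥leechLattice, dotInt ((g • a : ↥leechLattice) : Vec) (y : Vec) = -dotInt (a : Vec) x := by
    intro a
    rw [show (y : Vec) = -((g • x : ↥leechLattice) : Vec) from rfl, dot_comm, dot_neg_left, dot_comm,
      co0_smul_dot]
  have hy1 : dotInt Spor.vecV (y : Vec) = -16 := by
    rw [show Spor.vecV = ((g • v : ↥leechLattice) : Vec) by rw [g2]; rfl, hyv, hxv]
  have hy2 : dotInt Spor.vecU' (y : Vec) = -8 := by
    rw [show Spor.vecU' = ((g • X : ↥leechLattice) : Vec) by rw [g1]; rfl, hyv, hlin, hxv, hxw]; norm_num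
  have hy : (y : Vec) ∈ dotFS (-16) Spor.vecV := by
    refine mem_dotFS.2 ⟨⟨y.2, ?_⟩, hy1⟩
    rw [show (y : Vec) = -((g • x : ↥leechLattice) : Vec) from rfl, sqNorm_neg, co0_smul_norm, hx]
  have hmem : (y : Vec) ∈ Subtype.val '' orbit ↥(stabilizer ↥Co0 Co3Rank.U0 ⊓ stabilizer ↥Co0 X0)
      (⟨root 6, root_mem 6⟩ : ↥leechLattice) := by
    rw [orbit_val 6 (by decide)]
    rcases Co3Rank.cover hy with h | ⟨k, hk⟩
    · rw [h, dot_self, vecU'_facts.2.1] at hy2
      norm_num at hy2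
    · refine Finset.mem_coe.2 (Finset.mem_biUnion.2 ⟨k, Finset.mem_filter.2 ⟨Finset.mem_univ _, ?_⟩, hk⟩)
      rw [← ((members_facts k).2 _ hk).2.2.1, hy2]
      decide
  obtain ⟨_, ⟨⟨h, h1, h2⟩, rfl⟩, he⟩ := hmem
  have he' : h • (⟨root 6, root_mem 6⟩ : ↥leechLattice) = y := Subtype.ext he
  have hU : h⁻¹ • Co3Rank.U0 = Co3Rank.U0 := inv_smul_eq_iff.2 (mem_stabilizer_iff.1 h1).symm
  have hX0 : h⁻¹ • X0 = X0 := inv_smul_eq_iff.2 (mem_stabilizer_iff.1 h2).symm
  refine ⟨h⁻¹ * g, by rw [mul_smul, g2, hU], ?_, ?_⟩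
  · rw [show w = -v + -X by rw [hXdef]; abel, mul_smul, co0_smul_add, co0_smul_neg, co0_smul_neg, g1, g2,
      co0_smul_add, co0_smul_neg, co0_smul_neg, hU, hX0]
  · have : g • x = -y := (neg_neg _).symm
    rw [mul_smul, this, ← he', co0_smul_neg, inv_smul_smul]
    rfl

/-- Triple stabilisers in a configuration. -/
theorem stab_equiv {v w x : ↥leechLattice} {g : ↥Co0} (g1 : g • v = Co3Rank.U0)
    (g2 : g • w = -Co3Rank.U0 + -X0) (g3 : g • x = x0) :
    Nonempty (↥(stabilizer ↥Co0 v ⊓ stabilizer ↥Co0 w ⊓ stabilizer ↥Co0 x) ≃* ↥K) := by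
  have e : (stabilizer ↥Co0 v ⊓ stabilizer ↥Co0 w ⊓ stabilizer ↥Co0 x).map (MulAut.conj g).toMonoidHom = K := by
    ext h
    rw [Subgroup.mem_map_equiv]
    simp only [Subgroup.mem_inf, K, mem_stabilizer_iff, MulEquiv.toMonoidHom_eq_coe,
      MonoidHom.coe_coe, MulAut.conj_symm_apply, mul_smul, inv_smul_eq_iff, g1, g2, g3]
    constructor
    · rintro ⟨⟨a, b⟩, c⟩
      refine ⟨⟨a, ?_⟩, c⟩
      rw [co0_smul_add, co0_smul_neg, co0_smul_neg, a] at b
      exact neg_injective (add_left_cancel b)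
    · rintro ⟨⟨a, b⟩, c⟩
      exact ⟨⟨a, by rw [co0_smul_add, co0_smul_neg, co0_smul_neg, a, b]⟩, c⟩
  exact ⟨((MulAut.conj g).subgroupMap _).trans (MulEquiv.subgroupCongr e)⟩

/-- The number of further vectors. -/
theorem count {v w : ↥leechLattice} (hv : sqNorm (v : Vec) = 48) (hw : sqNorm (w : Vec) = 48)
    (hvw : dotInt (v : Vec) w = -32) :
    {x : ↥leechLattice | sqNorm (x : Vec) = 32 ∧ dotInt (v : Vec) x = 16 ∧
      dotInt (w : Vec) x = -24}.ncard = 352 := by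
  set A := {x : ↥leechLattice | sqNorm (x : Vec) = 32 ∧ dotInt (v : Vec) x = 16 ∧
      dotInt (w : Vec) x = -24} with hA
  set X : ↥leechLattice := -v + -w with hXdef
  have hlin : ∀ y : Vec, dotInt (X : Vec) y = -dotInt (v : Vec) y - dotInt (w : Vec) y := fun y => by
    rw [hXdef, AddSubgroup.coe_add, AddSubgroup.coe_neg, AddSubgroup.coe_neg]
    simp only [dotInt, Pi.add_apply, Pi.neg_apply, add_mul, neg_mul, Finset.sum_add_distrib,
      Finset.sum_neg_distrib]
    ring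
  obtain ⟨g, g2, g1⟩ : ∃ g : ↥Co0, g • v = Co3Rank.U0 ∧ g • X = X0 := by
    have hXn : sqNorm (X : Vec) = 32 := by
      rw [← dot_self, hlin, dot_comm (v : Vec), dot_comm (w : Vec), hlin, hlin, dot_self, dot_self,
        dot_comm (w : Vec) (v : Vec), hvw, hv, hw]; norm_num
    have hXv : dotInt (X : Vec) v = -16 := by
      rw [hlin, dot_self, dot_comm (w : Vec), hvw, hv]; norm_num
    obtain ⟨g, g1, g2⟩ := coPair_subtype (v := X) (w := v) (v' := X0) (w' := Co3Rank.U0)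
      (coPair_six X.2 hXn v.2 hv hXv vecU'_facts.1 vecU'_facts.2.1 vecV_leech vecV_norm vecU'_facts.2.2)
    exact ⟨g, g2, g1⟩
  have key : A = (fun y => g⁻¹ • y) '' orbit ↥(stabilizer ↥Co0 Co3Rank.U0 ⊓ stabilizer ↥Co0 X0) x0 := by
    ext x
    constructor
    · rintro ⟨h1, h2, h3⟩
      obtain ⟨k, k1, k2, k3⟩ := move hv hw hvw h1 h2 h3
      have kX : k • X = X0 := by
        rw [hXdef, co0_smul_add, co0_smul_neg, co0_smul_neg, k1, k2]; abel
      have hk : g * k⁻¹ ∈ stabilizer ↥Co0 Co3Rank.U0 ⊓ stabilizer ↥Co0 X0 := by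
        refine ⟨?_, ?_⟩
        · show (g * k⁻¹) • Co3Rank.U0 = Co3Rank.U0
          rw [mul_smul, show k⁻¹ • Co3Rank.U0 = v from inv_smul_eq_iff.2 k1.symm, g2]
        · show (g * k⁻¹) • X0 = X0
          rw [mul_smul, show k⁻¹ • X0 = X from inv_smul_eq_iff.2 kX.symm, g1]
      refine ⟨_, ⟨⟨_, hk⟩, rfl⟩, ?_⟩
      show g⁻¹ • (g * k⁻¹) • x0 = x
      rw [mul_smul, inv_smul_smul, inv_smul_eq_iff, k3]
    · rintro ⟨_, ⟨⟨k, k1, k2⟩, rfl⟩, rfl⟩
      have e1 : (g⁻¹ * k) • Co3Rank.U0 = v := by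
        rw [mul_smul, mem_stabilizer_iff.1 k1, inv_smul_eq_iff, g2]
      have e2 : (g⁻¹ * k) • X0 = X := by
        rw [mul_smul, mem_stabilizer_iff.1 k2, inv_smul_eq_iff, g1]
      obtain ⟨hn, hd1, hd2⟩ : sqNorm (root 6) = 32 ∧ dotInt Spor.vecV (root 6) = -16 ∧
          dotInt Spor.vecU' (root 6) = -8 := by
        obtain ⟨a, b, c⟩ := root_vals 6
        exact ⟨a, b, c.trans (by decide)⟩
      have hx0 : (x0 : Vec) = -root 6 := rfl
      show g⁻¹ • k • x0 ∈ A
      rw [← mul_smul]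
      set m := g⁻¹ * k
      have hv' : dotInt (v : Vec) ((m • x0 : ↥leechLattice) : Vec) = 16 := by
        rw [← e1, co0_smul_dot, hx0, dot_comm, dot_neg_left, dot_comm]
        show -dotInt Spor.vecV (root 6) = 16
        rw [hd1]; norm_num
      have hX' : dotInt (X : Vec) ((m • x0 : ↥leechLattice) : Vec) = 8 := by
        rw [← e2, co0_smul_dot, hx0, dot_comm, dot_neg_left, dot_comm]
        show -dotInt Spor.vecU' (root 6) = 8
        rw [hd2]; norm_num
      refine ⟨by rw [co0_smul_norm, hx0, sqNorm_neg, hn], hv', ?_⟩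
      rw [hlin] at hX'
      omega
  rw [key, Set.ncard_image_of_injective _ (MulAction.injective g⁻¹), orbit_x0]

end

end Cfsg.Agent.LeechCount.HSPlane
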